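import Cfsg.Agent.Coset.Table
import Cfsg.Agent.Coset.J4xy.TableKData
import Cfsg.Agent.Coset.J4xy.Data

set_option autoImplicit false
set_option maxRecDepth 100000

namespace CfsgLib.Coset.J4xy.TK

theorem hR : checkRules relK subs R = true := by decide +kernel
theorem hdefs : checkDefs E 6 13 7262 = true := by decide +kernel
theorem hsteps : checkChunks E (ivP 6) R 6 8 7262 244 C = true := by decide +kernel
theorem htable : checkTable E (ivP 6) (7262 + chunk * 244) 5760 6 13 3 Rep Ref Tb = true := by decide +kernel

end CfsgLib.Coset.J4xy.TK
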