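import Cfsg.Agent.Coset.Table
import Cfsg.Agent.Coset.J4xy.TableMData
import Cfsg.Agent.Coset.J4xy.Data

set_option autoImplicit false
set_option maxRecDepth 100000

namespace CfsgLib.Coset.J4xy.TM

theorem hR : checkRules relM subs R = true := by decide +kernel
theorem hdefs : checkDefs E 14 12 2135 = true := by decide +kernel
theorem hsteps : checkChunks E (ivP 14) R 14 8 2135 185 C = true := by decide +kernel
theorem htable : checkTable E (ivP 14) (2135 + chunk * 185) 1771 14 11 4 Rep Ref Tb = true := by decide +kernel

end CfsgLib.Coset.J4xy.TM
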