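import Cfsg.Agent.Coset.Table
import Cfsg.Agent.Coset.J4xy.TablePData
import Cfsg.Agent.Coset.J4xy.Data

set_option autoImplicit false
set_option maxRecDepth 100000

namespace CfsgLib.Coset.J4xy.TP

theorem hR : checkRules relP subs R = true := by decide +kernel
theorem hdefs : checkDefs E 3 5 24 = true := by decide +kernel
theorem hsteps : checkChunks E iv3 R 3 1 24 1 C = true := by decide +kernel
theorem htable : checkTable E iv3 (24 + chunk * 1) 24 3 5 2 Rep Ref Tb = true := by decide +kernel

end CfsgLib.Coset.J4xy.TP
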