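/-
Word certificates: free reduction and products of conjugated relators.
-/
import Cfsg.Agent.Coset.Checker
import Mathlib.Data.List.Basic
import Mathlib.GroupTheory.FreeGroup.Reduce

set_option autoImplicit false

namespace CfsgLib.Coset.J4xy

/-- Prepend a letter, cancelling. -/
def pushW (iv : Nat → Nat) (l : Nat) : List Nat → List Nat
  | [] => [l]
  | h :: t => if iv l == h then t else l :: h :: t

/-- Free reduction. -/
def redW (iv : Nat → Nat) (w : List Nat) : List Nat := w.foldr (pushW iv) []

/-- The inverse word. -/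
def winv (iv : Nat → Nat) (w : List Nat) : List Nat := (w.reverse).map iv

/-- A word in letters standing for words. -/
def subW (g : Nat → List Nat) (w : List Nat) : List Nat := w.flatMap g

/-- The word of a certificate. -/
def certWord (iv : Nat → Nat) (rels : List (List Nat)) (cs : List (List Nat × Nat × Bool)) : List Nat :=
  cs.flatMap fun c =>
    c.1 ++ (if c.2.2 then winv iv (rels.getD c.2.1 []) else rels.getD c.2.1 []) ++ winv iv c.1

variable {G : Type*} [Group G] {L : List G} {iv : Nat → Nat}

theorem ev_pushW (hiv : ∀ x, fl L (iv x) = (fl L x)⁻¹) (l : Nat) (w : List Nat) :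
    ev L (pushW iv l w) = fl L l * ev L w := by
  cases w with
  | nil => simp [pushW]
  | cons h t =>
    by_cases e : iv l = h
    · simp [pushW, e, show fl L h = (fl L l)⁻¹ from e ▸ hiv l]
    · simp [pushW, e]

theorem ev_redW (hiv : ∀ x, fl L (iv x) = (fl L x)⁻¹) : ∀ w : List Nat, ev L (redW iv w) = ev L w
  | [] => rfl
  | l :: w => by
    show ev L (pushW iv l (redW iv w)) = _
    rw [ev_pushW hiv, ev_redW hiv w, ev_cons]

theorem ev_winv (hiv : ∀ x, fl L (iv x) = (fl L x)⁻¹) : ∀ w : List Nat, ev L (winv iv w) = (ev L w)⁻¹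
  | [] => by simp [winv]
  | l :: w => by
    have ih := ev_winv hiv w
    simp only [winv, List.reverse_cons, List.map_append, List.map_cons, List.map_nil] at ih ⊢
    rw [ev_append, ih, ev_cons, ev_nil, mul_one, hiv, ev_cons, mul_inv_rev]

theorem ev_subW (g : Nat → List Nat) : ∀ w : List Nat,
    ev L (subW g w) = (w.map fun l => ev L (g l)).prod
  | [] => rfl
  | l :: w => by
    show ev L (g l ++ subW g w) = _
    rw [ev_append, ev_subW g w, List.map_cons, List.prod_cons]

theorem ev_certWord (hiv : ∀ x, fl L (iv x) = (fl L x)⁻¹) {rels : List (List Nat)}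
    (hrel : ∀ w ∈ rels, ev L w = 1) : ∀ cs : List (List Nat × Nat × Bool), ev L (certWord iv rels cs) = 1
  | [] => rfl
  | (u, j, b) :: cs => by
    have hr : ev L (rels.getD j []) = 1 := by
      rcases lt_or_ge j rels.length with hj | hj
      · rw [List.getD_eq_getElem _ _ hj]; exact hrel _ (List.getElem_mem hj)
      · rw [List.getD_eq_default _ _ hj]; rfl
    have hm : ev L (if b then winv iv (rels.getD j []) else rels.getD j []) = 1 := by
      cases b
      · rw [if_neg (by decide)]; exact hr
      · rw [if_pos rfl, ev_winv hiv, hr, inv_one]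
    show ev L ((u ++ (if b then winv iv (rels.getD j []) else rels.getD j []) ++ winv iv u) ++
      certWord iv rels cs) = 1
    rw [ev_append, ev_append, ev_append, hm, ev_winv hiv, mul_one, mul_inv_cancel, one_mul,
      ev_certWord hiv hrel cs]

/-- A word with a certificate is trivial. -/
theorem ev_eq_one_of_cert (hiv : ∀ x, fl L (iv x) = (fl L x)⁻¹) {rels : List (List Nat)}
    (hrel : ∀ w ∈ rels, ev L w = 1) (cs : List (List Nat × Nat × Bool)) {w : List Nat}
    (h : (redW iv (certWord iv rels cs) == redW iv w) = true) : ev L w = 1 := by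
  rw [← ev_redW hiv w, ← eq_of_beq h, ev_redW hiv, ev_certWord hiv hrel]

/-- Equality of free reductions transports values. -/
theorem ev_eq_of_redW (hiv : ∀ x, fl L (iv x) = (fl L x)⁻¹) {u w : List Nat}
    (h : redW iv u = redW iv w) : ev L u = ev L w := by
  rw [← ev_redW hiv u, h, ev_redW hiv]

/-- Letters of a word of the free group. -/
def letters {α : Type} [DecidableEq α] (c : α × Bool → Nat) (r : FreeGroup α) : List Nat :=
  r.toWord.map c

theorem lift_eq_ev {α : Type} [DecidableEq α] (c : α × Bool → Nat) (f : α → G)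
    (hc : ∀ a b, fl L (c (a, b)) = cond b (f a) (f a)⁻¹) (r : FreeGroup α) :
    FreeGroup.lift f r = ev L (letters c r) := by
  conv_lhs => rw [← FreeGroup.mk_toWord (x := r)]
  rw [FreeGroup.lift_mk, letters, ev, List.map_map]
  congr 1
  exact List.map_congr_left fun x _ => (hc x.1 x.2).symm

end CfsgLib.Coset.J4xy
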