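/-
The group on two generators presented by the relators of M24 in the presented J4 has order at most
three times that of M24.
-/
import Cfsg.Agent.Coset.Presented
import Cfsg.Agent.Coset.J4xy.Word
import Cfsg.Agent.Coset.J4xy.Data
import Cfsg.Agent.Coset.J4xy.TableM
import Cfsg.Agent.Coset.J4xy.TableK
import Cfsg.Agent.Coset.J4xy.TableP
import Mathlib.GroupTheory.OrderOfElement
import Mathlib.Tactic.IntervalCases

set_option autoImplicit false
set_option maxRecDepth 100000

namespace CfsgLib.Coset.J4xy

/-- The group presented by the seven relators on two generators. -/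
abbrev PG : Type := NumGr 3 relP

/-- Its letters. -/
noncomputable def L3 : List PG := numGens 3 relP

theorem L3_rels : ∀ w ∈ relP, ev L3 w = 1 := ev_numGens

theorem L3_iv (x : Nat) : fl L3 (iv3 x) = (fl L3 x)⁻¹ := by
  have h0 : fl L3 0 * fl L3 0 = 1 := by simpa using L3_rels [0, 0] (by decide)
  have h1 : fl L3 1 * fl L3 2 = 1 := by simpa using L3_rels [1, 2] (by decide)
  rcases lt_or_ge x 3 with hx | hx
  · interval_cases x
    · exact (inv_eq_of_mul_eq_one_right h0).symm
    · exact (inv_eq_of_mul_eq_one_right h1).symm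
    · exact (inv_eq_of_mul_eq_one_left h1).symm
  · have e : iv3 x = x := by
      simp only [iv3]
      rw [show Nat.beq x 1 = false from by cases h : Nat.beq x 1 <;> simp_all [Nat.eq_of_beq_eq_true],
        show Nat.beq x 2 = false from by cases h : Nat.beq x 2 <;> simp_all [Nat.eq_of_beq_eq_true]]
      rfl
    rw [e, fl_of_le _ (by simp [L3, length_numGens]; omega), inv_one]

/-- The words of the fourteen letters. -/
def genWord (l : Nat) : List Nat :=
  if l % 2 == 0 then genM.getD (l / 2) [] else winv iv3 (genM.getD (l / 2) [])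

/-- The fourteen letters of the subgroup of index at most 24. -/
noncomputable def LM : List PG := (List.range 14).map fun l => ev L3 (genWord l)

theorem length_LM : LM.length = 14 := by simp [LM]

theorem fl_LM {l : Nat} (hl : l < 14) : fl LM l = ev L3 (genWord l) := by
  simp [fl, LM, List.getD_eq_getElem?_getD, hl]

theorem ivP_of_le {k x : Nat} (h : k ≤ x) : ivP k x = x := by
  simp [ivP, Nat.ble_eq.mpr h]

theorem LM_iv (x : Nat) : fl LM (ivP 14 x) = (fl LM x)⁻¹ := by
  rcases lt_or_ge x 14 with hx | hx
  · interval_cases x <;>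
      (simp only [ivP, Nat.reduceBNe, Nat.ble_eq, cond_false]; norm_num [fl_LM, genWord, ev_winv L3_iv, Nat.ble])
  · rw [ivP_of_le hx, fl_of_le _ (by rw [length_LM]; omega), inv_one]

theorem ev_LM {w : List Nat} (hw : ∀ l ∈ w, l < 14) : ev LM w = ev L3 (subW genWord w) := by
  rw [ev_subW, ev]
  congr 1
  exact List.map_congr_left fun l hl => fl_LM (hw l hl)

/-- All certificates check. -/
def checkCerts : Bool :=
  (relM0.zip certs).all fun p =>
    p.1.all (fun l => Nat.blt l 14) && (redW iv3 (certWord iv3 relP p.2) == redW iv3 (subW genWord p.1))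

theorem checkCerts_ok : checkCerts = true := by decide +kernel

theorem relM0_ok {w : List Nat} (hw : w ∈ relM0) : ev LM w = 1 := by
  have hlen : relM0.length = certs.length := by decide +kernel
  obtain ⟨i, hi, rfl⟩ := List.getElem_of_mem hw
  have hi' : i < (relM0.zip certs).length := by simp [← hlen, hi]
  have h := List.all_eq_true.mp checkCerts_ok _ (List.getElem_mem hi')
  rw [List.getElem_zip, Bool.and_eq_true, List.all_eq_true] at h
  rw [ev_LM fun l hl => by simpa using h.1 l hl]
  exact ev_eq_one_of_cert L3_iv L3_rels _ h.2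

theorem LM_rels : ∀ w ∈ relM, ev LM w = 1 := by
  intro w hw
  have hs : ((relM.filter fun r => !relM0.contains r).all fun r =>
      r.length == 2 && r.getD 1 0 == ivP 14 (r.getD 0 0)) = true := by decide +kernel
  by_cases h : w ∈ relM0
  · exact relM0_ok h
  · have := List.all_eq_true.mp hs w (List.mem_filter.mpr ⟨hw, by simp [h]⟩)
    simp only [Bool.and_eq_true, beq_iff_eq] at this
    match w, this with
    | [a, b], ⟨_, hb⟩ =>
      simp at hb
      simp [hb, LM_iv]

/-- Letters of the subgroup of order at most 17280. -/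
def selK : List Nat := [0, 1, 2, 3, 8, 9]

noncomputable def LK : List PG := lv LM selK

theorem LK_iv (x : Nat) : fl LK (ivP 6 x) = (fl LK x)⁻¹ := by
  rw [LK, fl_lv, fl_lv, length_LM]
  rcases lt_or_ge x 6 with hx | hx
  · have e : selK.getD (ivP 6 x) 14 = ivP 14 (selK.getD x 14) := by interval_cases x <;> decide
    rw [e, LM_iv]
  · rw [ivP_of_le hx, List.getD_eq_default _ _ (by simpa [selK] using hx),
      fl_of_le _ length_LM.le, inv_one]

theorem LK_rels : ∀ w ∈ relK, ev LK w = 1 := by
  intro w hw
  have hc : (relK.all fun r => relM.contains (r.map fun l => selK.getD l 14)) = true := by decide +kernel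
  rw [LK, ev_lv, length_LM]
  exact LM_rels _ (List.contains_iff_mem.mp (List.all_eq_true.mp hc w hw))

theorem card_first : Finite (Subgroup.zpowers (fl LK 0)) ∧ Nat.card (Subgroup.zpowers (fl LK 0)) ≤ 3 := by
  have h : fl LK 0 * (fl LK 0 * fl LK 0) = 1 := by simpa [ev] using LK_rels [0, 0, 0] (by decide)
  have hf : IsOfFinOrder (fl LK 0) := isOfFinOrder_iff_pow_eq_one.mpr ⟨3, by omega, by rw [pow_three]; exact h⟩
  refine ⟨Nat.finite_of_card_ne_zero ?_, ?_⟩
  · rw [Nat.card_zpowers]; exact hf.orderOf_pos.ne'
  · rw [Nat.card_zpowers]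
    exact Nat.le_of_dvd (by omega) (orderOf_dvd_of_pow_eq_one (by rw [pow_three]; exact h))

theorem card_LK : Finite (Subgroup.closure {x | x ∈ LK} : Subgroup PG) ∧
    Nat.card (Subgroup.closure {x | x ∈ LK} : Subgroup PG) ≤ 17280 := by
  have hl : LK.length = 6 := by simp [LK, lv, selK]
  have h := tableOK_of_check (L := LK) (H := Subgroup.zpowers (fl LK 0)) LK_iv TK.hR
    (hl.symm ▸ TK.hdefs) (hl.symm ▸ TK.hsteps) (hl.symm ▸ TK.htable) LK_rels
    (fun w hw => by
      have : w = [0] := by simpa [TK.subs] using hw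
      subst this; simp [Subgroup.mem_zpowers])
  exact h.finite_card_le (by omega) (Subgroup.zpowers_le.2 (mem_closure_fl 0)) card_first.1 card_first.2

theorem card_LM : Finite (Subgroup.closure {x | x ∈ LM} : Subgroup PG) ∧
    Nat.card (Subgroup.closure {x | x ∈ LM} : Subgroup PG) ≤ 1771 * 17280 := by
  have hl := length_LM
  have hKM : (Subgroup.closure {x | x ∈ LK} : Subgroup PG) ≤ Subgroup.closure {x | x ∈ LM} := by
    rw [Subgroup.closure_le]
    rintro x hx
    obtain ⟨l, -, rfl⟩ := List.mem_map.mp hx
    exact mem_closure_fl l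
  have hmem : ∀ j < 6, fl LM (selK.getD j 14) ∈ Subgroup.closure {x | x ∈ LK} := fun j _ => by
    have := mem_closure_fl (L := LK) j
    rwa [LK, fl_lv, length_LM] at this
  have h := tableOK_of_check (L := LM) (H := Subgroup.closure {x | x ∈ LK}) LM_iv TM.hR
    (hl.symm ▸ TM.hdefs) (hl.symm ▸ TM.hsteps) (hl.symm ▸ TM.htable) LM_rels
    (fun w hw => by
      have : w = [0] ∨ w = [2] ∨ w = [8] := by simpa [TM.subs] using hw
      rcases this with rfl | rfl | rfl <;> simp only [ev_cons, ev_nil, mul_one]
      · exact hmem 0 (by omega)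
      · exact hmem 2 (by omega)
      · exact hmem 4 (by omega))
  exact h.finite_card_le (by omega) hKM card_LK.1 card_LK.2

/-- The presented group has order at most three times that of M24. -/
theorem card_PG : Finite PG ∧ Nat.card PG ≤ 24 * (1771 * 17280) := by
  have hl : L3.length = 3 := length_numGens
  have hc : (Subgroup.closure {x | x ∈ LM} : Subgroup PG) ≤ Subgroup.closure {x | x ∈ L3} := by
    simp [L3, closure_numGens]
  have hs : ((TP.subs.zip (List.range 7)).all fun p => p.1 == genWord (2 * p.2)) = true := by decide +kernel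
  have hlen : TP.subs.length = 7 := by decide +kernel
  have h := tableOK_of_check (L := L3) (H := Subgroup.closure {x | x ∈ LM}) L3_iv TP.hR
    (hl.symm ▸ TP.hdefs) (hl.symm ▸ TP.hsteps) (hl.symm ▸ TP.htable) L3_rels
    (fun w hw => by
      obtain ⟨i, hi, rfl⟩ := List.getElem_of_mem hw
      have hi' : i < (TP.subs.zip (List.range 7)).length := by simp [hlen]; omega
      have e := List.all_eq_true.mp hs _ (List.getElem_mem hi')
      rw [List.getElem_zip, beq_iff_eq] at e
      simp only [List.getElem_range] at e
      rw [e, ← fl_LM (by omega)]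
      exact mem_closure_fl _)
  obtain ⟨h1, h2⟩ := h.finite_card_le (by omega) hc card_LM.1 card_LM.2
  have e : (Subgroup.closure {x | x ∈ L3} : Subgroup PG) = ⊤ := closure_numGens
  rw [e, Subgroup.card_top] at h2
  rw [e] at h1
  exact ⟨Finite.of_equiv _ Subgroup.topEquiv.toEquiv, h2⟩

end CfsgLib.Coset.J4xy
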