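/-
The presented group is M24: it maps onto M24 with a kernel of order at most three, which is central,
and the multiplier of M24 is trivial.
-/
import Cfsg.Agent.Coset.J4xy.Bound
import Cfsg.Agent.S2038
import Cfsg.Agent.Golay.Cert
import Cfsg.Agent.Golay.Mathieu

set_option autoImplicit false
set_option linter.style.haveILetI false
set_option maxRecDepth 100000

namespace CfsgLib.Coset.J4xy

open Cfsg CfsgLib.Golay CfsgLib.Golay.Cert

theorem perm_ok : ∀ i < 3, genOK (permL.getD i []) = true := by decide +kernel

/-- The images of the three letters in M24. -/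
noncomputable def L24 : List M24 :=
  [(genOK_spec (perm_ok 0 (by omega))).choose, (genOK_spec (perm_ok 1 (by omega))).choose,
    (genOK_spec (perm_ok 2 (by omega))).choose]

theorem toList_L24 : ∀ i < 3, toList ((fl L24 i : M24) : Equiv.Perm GolayPt) = permL.getD i [] := by
  intro i hi
  interval_cases i
  · exact (genOK_spec (perm_ok 0 (by omega))).choose_spec
  · exact (genOK_spec (perm_ok 1 (by omega))).choose_spec
  · exact (genOK_spec (perm_ok 2 (by omega))).choose_spec

/-- Evaluation of a word on position lists. -/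
def evL (w : List Nat) : List Nat := w.foldr (fun l acc => compL (permL.getD l []) acc) (List.range 24)

theorem toList_ev : ∀ w : List Nat, (∀ l ∈ w, l < 3) → toList ((ev L24 w : M24) : Equiv.Perm GolayPt) = evL w
  | [], _ => toList_one
  | l :: w, h => by
    rw [ev_cons, Subgroup.coe_mul, toList_mul, toList_L24 l (h l (by simp)),
      toList_ev w fun a ha => h a (by simp [ha])]
    rfl

theorem ext_toList {σ τ : Equiv.Perm GolayPt} (h : toList σ = toList τ) : σ = τ :=
  Equiv.ext fun p => idx_injective (by rw [← toList_getD_idx σ p, h, toList_getD_idx])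

theorem evL_rels : (relP.all fun w => w.all (fun l => Nat.blt l 3) && (evL w == List.range 24)) = true := by
  decide +kernel

theorem L24_rels : ∀ w ∈ relP, ev L24 w = 1 := by
  intro w hw
  have h := List.all_eq_true.mp evL_rels w hw
  rw [Bool.and_eq_true, List.all_eq_true, beq_iff_eq] at h
  refine Subtype.ext (ext_toList ?_)
  rw [toList_ev w fun l hl => by simpa using h.1 l hl, h.2]
  exact toList_one.symm

/-- The map onto M24. -/
noncomputable def toM24 : PG →* M24 := numHom (L := L24) rfl L24_rels

theorem toM24_ev (w : List Nat) : toM24 (ev L3 w) = ev L24 w := numHom_ev rfl L24_rels w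

theorem evL_std : (stdW.map evL == gensL && stdW.all fun w => w.all fun l => Nat.blt l 3) = true := by
  decide +kernel

theorem toM24_surjective : Function.Surjective toM24 := by
  rw [← MonoidHom.range_eq_top, eq_top_iff]
  intro g _
  have hle : genGroup ≤ toM24.range.map M24.subtype := by
    have h := evL_std
    rw [Bool.and_eq_true, beq_iff_eq, List.all_eq_true] at h
    rw [genGroup, Subgroup.closure_le]
    intro σ hσ
    have hmem : σ ∈ gens := by
      rcases hσ with rfl | rfl | rfl <;> simp [gens]
    have hl : toList σ ∈ stdW.map evL := by rw [h.1, ← gens_map]; exact List.mem_map_of_mem hmem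
    obtain ⟨w, hw, he⟩ := List.mem_map.mp hl
    refine ⟨ev L24 w, ⟨ev L3 w, toM24_ev w⟩, ?_⟩
    have hw3 := List.all_eq_true.mp (h.2 w hw)
    exact ext_toList ((toList_ev w fun l hl' => by simpa using hw3 l hl').trans he)
  have hg : (g : Equiv.Perm GolayPt) ∈ genGroup := by rw [M24_eq_gen]; exact g.2
  obtain ⟨a, ha, hga⟩ := hle hg
  have e : a = g := Subtype.ext hga
  exact e ▸ ha

theorem fl0_sq : fl L3 0 * fl L3 0 = 1 := by simpa using L3_rels [0, 0] (by decide)

theorem fl1_cube : fl L3 1 * (fl L3 1 * fl L3 1) = 1 := by simpa using L3_rels [1, 1, 1] (by decide)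

theorem fl2_eq : fl L3 2 = (fl L3 1)⁻¹ := L3_iv 1

theorem prod_twentythree : (fl L3 0 * fl L3 1) ^ 23 = 1 := by
  have h := pow_ev (L := L3) [0, 1] 23
  rw [L3_rels (List.replicate 23 [0, 1]).flatten (by decide +kernel)] at h
  simpa using h

theorem mem_subgroup_of_gens {S : Subgroup PG} (h0 : fl L3 0 ∈ S) (h1 : fl L3 1 ∈ S) : S = ⊤ := by
  rw [eq_top_iff, ← closure_numGens, Subgroup.closure_le]
  intro x hx
  obtain ⟨l, hl, rfl⟩ := List.getElem_of_mem hx
  have e : (numGens 3 relP)[l] = fl L3 l := by rw [fl, L3, List.getD_eq_getElem _ _ hl]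
  rw [e]
  have hl3 : l < 3 := by simpa [length_numGens] using hl
  interval_cases l
  · exact h0
  · exact h1
  · rw [fl2_eq]; exact inv_mem h1

theorem perfect : commutator PG = ⊤ := by
  have key : ∀ g, g = fl L3 0 ∨ g = fl L3 1 → (Abelianization.of g : Abelianization PG) = 1 := by
    set a := (Abelianization.of (fl L3 0) : Abelianization PG) with ha
    set b := (Abelianization.of (fl L3 1) : Abelianization PG) with hb
    have a2 : a ^ 2 = 1 := by rw [ha, pow_two, ← map_mul, fl0_sq, map_one]
    have b3 : b ^ 3 = 1 := by rw [hb, pow_three, ← map_mul, ← map_mul, fl1_cube, map_one]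
    have ab : (a * b) ^ 23 = 1 := by rw [ha, hb, ← map_mul, ← map_pow, prod_twentythree, map_one]
    have e : a * b = 1 := by
      have h6 : (a * b) ^ 6 = 1 := by
        rw [mul_pow, show a ^ 6 = (a ^ 2) ^ 3 from pow_mul a 2 3, show b ^ 6 = (b ^ 3) ^ 2 from pow_mul b 3 2,
          a2, b3, one_pow, one_pow, one_mul]
      have h24 : (a * b) ^ 24 = 1 := by rw [pow_mul (a * b) 6 4, h6, one_pow]
      rwa [pow_succ, ab, one_mul] at h24
    have hab : a = b⁻¹ := eq_inv_of_mul_eq_one_left e
    have ha1 : a = 1 := by
      have : a ^ 3 = 1 := by rw [hab, inv_pow, b3, inv_one]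
      rwa [pow_succ, a2, one_mul] at this
    rintro g (rfl | rfl)
    · exact ha1
    · rw [ha1, one_mul] at e; exact e
  rw [← Abelianization.ker_of PG]
  exact mem_subgroup_of_gens (key _ (Or.inl rfl)) (key _ (Or.inr rfl))

theorem card_ker : Finite PG ∧ Nat.card toM24.ker ≤ 3 := by
  obtain ⟨hf, hc⟩ := card_PG
  refine ⟨hf, ?_⟩
  have h := Subgroup.card_mul_index toM24.ker
  rw [Subgroup.index_ker, MonoidHom.range_eq_top.mpr toM24_surjective, Subgroup.card_top,
    CfsgLib.Golay.card_M24] at h
  omega

theorem ker_central : toM24.ker ≤ Subgroup.center PG := by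
  obtain ⟨hf, hc⟩ := card_ker
  intro n hn
  rw [Subgroup.mem_center_iff]
  have two : ∀ g m : PG, m ∈ toM24.ker → g * g * m * (g * g)⁻¹ = m := by
    intro g m hm
    by_cases h1 : m = 1
    · subst h1; group
    have hgm : g * m * g⁻¹ ∈ toM24.ker := (MonoidHom.normal_ker _).conj_mem m hm g
    have hggm : g * g * m * (g * g)⁻¹ ∈ toM24.ker := (MonoidHom.normal_ker _).conj_mem m hm (g * g)
    by_contra h2
    have h3 : g * m * g⁻¹ ≠ m := fun e => h2 (by
      calc g * g * m * (g * g)⁻¹ = g * (g * m * g⁻¹) * g⁻¹ := by group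
        _ = m := by rw [e, e])
    have h4 : g * g * m * (g * g)⁻¹ ≠ g * m * g⁻¹ := fun e => h3 (by
      have e' : g * (g * m * g⁻¹) * g⁻¹ = g * m * g⁻¹ :=
        (show g * (g * m * g⁻¹) * g⁻¹ = g * g * m * (g * g)⁻¹ by group).trans e
      exact mul_left_cancel (mul_right_cancel e'))
    have e1 : g * m * g⁻¹ ≠ 1 := fun e => h1 (conj_eq_one_iff.mp e)
    have e2 : g * g * m * (g * g)⁻¹ ≠ 1 := fun e => h1 (conj_eq_one_iff.mp e)
    let l : List PG := [1, m, g * m * g⁻¹, g * g * m * (g * g)⁻¹]
    have hnd : l.Nodup := by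
      simp only [l, List.nodup_cons, List.mem_cons, List.not_mem_nil, or_false, not_or, List.nodup_nil,
        and_true, not_false_eq_true]
      exact ⟨⟨Ne.symm h1, e1.symm, e2.symm⟩, ⟨h3.symm, Ne.symm h2⟩, h4.symm⟩
    have hmem : ∀ x ∈ l, x ∈ toM24.ker := by
      intro x hx
      simp only [l, List.mem_cons, List.not_mem_nil, or_false] at hx
      rcases hx with rfl | rfl | rfl | rfl
      exacts [one_mem _, hm, hgm, hggm]
    haveI := hf
    have := Nat.card_le_card_of_injective
      (fun i : Fin l.length => (⟨l.get i, hmem _ (List.get_mem l i)⟩ : toM24.ker))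
      (fun i j hij => hnd.injective_get (congrArg Subtype.val hij))
    simp only [l, List.length_cons, List.length_nil] at this
    rw [Nat.card_fin] at this
    omega
  have fix : ∀ g : PG, g = fl L3 0 ∨ g = fl L3 1 → g * n = n * g := by
    set x := fl L3 0 with hx
    set y := fl L3 1 with hy
    have hy' : y * n = n * y := by
      have e : y = (y * y) * (y * y) := by
        calc y = y * (y * (y * y)) := by rw [fl1_cube, mul_one]
          _ = _ := by group
      have h := two (y * y) n hn
      rw [← e] at h
      exact mul_inv_eq_iff_eq_mul.mp h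
    have hxy : (x * y) * n = n * (x * y) := by
      have e : x * y = (x * y) ^ 12 * (x * y) ^ 12 := by
        rw [← pow_add, pow_succ, prod_twentythree, one_mul]
      have h := two ((x * y) ^ 12) n hn
      rw [← e] at h
      exact mul_inv_eq_iff_eq_mul.mp h
    rintro g (rfl | rfl)
    · have e : x = (x * y) * y⁻¹ := by group
      rw [e]
      exact ((show Commute (x * y) n from hxy).mul_left (show Commute y n from hy').inv_left).eq
    · exact hy'
  have hS : Subgroup.centralizer ({n} : Set PG) = ⊤ := mem_subgroup_of_gens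
    (Subgroup.mem_centralizer_singleton_iff.mpr (fix _ (Or.inl rfl)))
    (Subgroup.mem_centralizer_singleton_iff.mpr (fix _ (Or.inr rfl)))
  intro g
  exact Subgroup.mem_centralizer_singleton_iff.mp (hS.ge (Subgroup.mem_top g))

theorem toM24_bijective : Function.Bijective toM24 := by
  haveI := card_ker.1
  obtain ⟨π, hπ⟩ := Cfsg.Agent.S2038.result.2 PG toM24
    ⟨toM24_surjective, ker_central, by rw [perfect]; exact le_top⟩
  refine ⟨(MonoidHom.ker_eq_bot_iff _).mp ((Subgroup.eq_bot_iff_forall _).mpr fun n hn => ?_), toM24_surjective⟩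
  obtain ⟨a, ha⟩ := hπ ⟨n, hn⟩
  rw [Subsingleton.elim a 1, map_one] at ha
  exact (congrArg Subtype.val ha).symm

/-- The presented group is M24. -/
noncomputable def equivM24 : PG ≃* M24 := MulEquiv.ofBijective toM24 toM24_bijective

theorem isSimple_PG : IsSimpleGroup PG := by
  haveI := CfsgLib.Golay.m24_simple
  haveI : Nontrivial PG := equivM24.toEquiv.nontrivial
  exact IsSimpleGroup.isSimpleGroup_of_surjective equivM24.symm.toMonoidHom equivM24.symm.surjective

end CfsgLib.Coset.J4xy
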