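/-
In the presented J4 the two generators x, y generate M24.
-/
import Cfsg.Agent.Coset.J4xy.Iso
import Cfsg.Agent.Coset.J4xy.Rep

set_option autoImplicit false
set_option maxRecDepth 100000

namespace CfsgLib.Coset.J4xy

open Cfsg

/-- The images of the letters in the presented J4. -/
noncomputable def LJ : List Spor.J4 :=
  [PresentedGroup.of Spor.J4.Gen.x, PresentedGroup.of Spor.J4.Gen.y, (PresentedGroup.of Spor.J4.Gen.y)⁻¹,
    PresentedGroup.of Spor.J4.Gen.t]

/-- Inverse letters. -/
def iv4 (l : Nat) : Nat := cond (Nat.beq l 1) 2 (cond (Nat.beq l 2) 1 l)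

theorem mk_extra {r : FreeGroup Spor.J4.Gen} (hr : r ∈ Spor.J4.extra) :
    FreeGroup.lift (fun g => (PresentedGroup.of g : Spor.J4)) r = 1 := by
  have h : PresentedGroup.mk (Spor.coxRelators Spor.J4.edges ∪ {r | r ∈ Spor.J4.extra}) r = 1 :=
    PresentedGroup.one_of_mem (Or.inr hr)
  rw [← h]
  congr 1
  exact FreeGroup.ext_hom _ _ fun g => by rw [FreeGroup.lift_apply_of]; rfl

theorem LJ_x_sq : fl LJ 0 * fl LJ 0 = 1 := by
  have h := mk_extra (r := Spor.J4.x ^ 2) (by simp [Spor.J4.extra])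
  simpa [pow_two, LJ, fl] using h

theorem LJ_t_sq : fl LJ 3 * fl LJ 3 = 1 := by
  have h := mk_extra (r := Spor.J4.t ^ 2) (by simp [Spor.J4.extra])
  simpa [pow_two, LJ, fl] using h

theorem LJ_iv (x : Nat) : fl LJ (iv4 x) = (fl LJ x)⁻¹ := by
  rcases lt_or_ge x 4 with hx | hx
  · interval_cases x
    · exact (inv_eq_of_mul_eq_one_right LJ_x_sq).symm
    · rfl
    · show fl LJ 1 = (fl LJ 2)⁻¹
      exact (inv_inv _).symm
    · exact (inv_eq_of_mul_eq_one_right LJ_t_sq).symm
  · have e : iv4 x = x := by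
      simp only [iv4]
      rw [show Nat.beq x 1 = false from by cases h : Nat.beq x 1 <;> simp_all [Nat.eq_of_beq_eq_true],
        show Nat.beq x 2 = false from by cases h : Nat.beq x 2 <;> simp_all [Nat.eq_of_beq_eq_true]]
      rfl
    rw [e, fl_of_le _ (by simp [LJ]; omega), inv_one]

theorem LJ_extraW : ∀ w ∈ extraW, ev LJ w = 1 := by
  intro w hw
  obtain ⟨r, hr, rfl⟩ := List.mem_map.mp hw
  rw [← lift_eq_ev cJ (fun g => (PresentedGroup.of g : Spor.J4)) ?_ r, mk_extra hr]
  rintro (_ | _ | _) (_ | _) <;>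
    first
      | rfl
      | exact (inv_eq_of_mul_eq_one_right LJ_x_sq).symm
      | exact (inv_eq_of_mul_eq_one_right LJ_t_sq).symm

theorem relP_words : (relP.all fun w =>
    ([] :: extraW).any fun u => redW iv4 u == redW iv4 w) = true := by decide +kernel

theorem LJ_rels : ∀ w ∈ relP, ev LJ w = 1 := by
  intro w hw
  obtain ⟨u, hu, he⟩ := List.any_eq_true.mp (List.all_eq_true.mp relP_words w hw)
  rw [← ev_eq_of_redW LJ_iv (eq_of_beq he)]
  rcases List.mem_cons.mp hu with rfl | hu
  · rfl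
  · exact LJ_extraW u hu

/-- The images of the three letters. -/
noncomputable def LJ3 : List Spor.J4 := LJ.take 3

theorem LJ3_rels : ∀ w ∈ relP, ev LJ3 w = 1 := by
  intro w hw
  have hl : (relP.all fun w => w.all fun l => Nat.blt l 3) = true := by decide +kernel
  rw [← LJ_rels w hw, ev, ev]
  congr 1
  refine List.map_congr_left fun l hl' => ?_
  have : l < 3 := by simpa using List.all_eq_true.mp (List.all_eq_true.mp hl w hw) l hl'
  interval_cases l <;> rfl

theorem length_LJ3 : LJ3.length = 3 := rfl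

/-- The map into the presented J4. -/
noncomputable def toJ4 : PG →* Spor.J4 := numHom (L := LJ3) length_LJ3 LJ3_rels

theorem toJ4_injective : Function.Injective toJ4 := by
  rw [← MonoidHom.ker_eq_bot_iff]
  haveI := isSimple_PG
  refine ((MonoidHom.normal_ker toJ4).eq_bot_or_eq_top).resolve_right fun h => x_ne_one ?_
  have hm : fl L3 0 ∈ toJ4.ker := h ▸ Subgroup.mem_top _
  rw [MonoidHom.mem_ker, toJ4, L3, numHom_fl] at hm
  exact hm

theorem range_toJ4 : toJ4.range =
    (Subgroup.closure ({Spor.J4.x, Spor.J4.y} : Set (FreeGroup Spor.J4.Gen))).map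
      (PresentedGroup.mk (Spor.coxRelators Spor.J4.edges ∪ {r | r ∈ Spor.J4.extra})) := by
  rw [toJ4, range_numHom, MonoidHom.map_closure]
  apply le_antisymm <;> rw [Subgroup.closure_le]
  · intro g hg
    have : g = PresentedGroup.of Spor.J4.Gen.x ∨ g = PresentedGroup.of Spor.J4.Gen.y ∨
        g = (PresentedGroup.of Spor.J4.Gen.y)⁻¹ := by simpa [LJ3, LJ] using hg
    rcases this with rfl | rfl | rfl
    · exact Subgroup.subset_closure ⟨_, Or.inl rfl, rfl⟩
    · exact Subgroup.subset_closure ⟨_, Or.inr rfl, rfl⟩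
    · exact inv_mem (Subgroup.subset_closure ⟨_, Or.inr rfl, rfl⟩)
  · rintro _ ⟨a, (rfl | rfl), rfl⟩
    · exact Subgroup.subset_closure (by simp [LJ3, LJ]; left; rfl)
    · exact Subgroup.subset_closure (by simp [LJ3, LJ]; right; left; rfl)

/-- The two generators generate a copy of M24. -/
theorem xy_iso_m24 : Nonempty
    ((((Subgroup.closure ({Spor.J4.x, Spor.J4.y} : Set (FreeGroup Spor.J4.Gen))).map
      (PresentedGroup.mk (Spor.coxRelators Spor.J4.edges ∪ {r | r ∈ Spor.J4.extra})))) ≃* M24) :=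
  ⟨(MulEquiv.subgroupCongr range_toJ4.symm).trans
    ((MonoidHom.ofInjective toJ4_injective).symm.trans equivM24)⟩

end CfsgLib.Coset.J4xy
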